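import Groth.Prelude.Def_W4c3perfectstacksMV
import Mathlib.CategoryTheory.Triangulated.Functor
import Mathlib.CategoryTheory.Triangulated.Adjunction
import Mathlib.CategoryTheory.Triangulated.Triangulated
import Mathlib.CategoryTheory.Adjunction.Additive
import Mathlib.CategoryTheory.Adjunction.FullyFaithful

/-! Mayer–Vietoris squares of triangulated categories: objects killed by the open restriction,
the Mayer–Vietoris triangle. -/

noncomputable section

set_option linter.unusedSectionVars false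
set_option backward.isDefEq.respectTransparency false

open CategoryTheory CategoryTheory.Limits CategoryTheory.Pretriangulated W4c3perfectstacks

namespace Groth.Agent.MVTri.Basic

universe v u

section Shift

variable {C D : Type u} [Category.{v} C] [Category.{v} D] [Preadditive C] [Preadditive D]
  [HasShift C ℤ] [HasShift D ℤ] [∀ n : ℤ, (shiftFunctor C n).Additive]
  [∀ n : ℤ, (shiftFunctor D n).Additive]

lemma isZero_obj_shift (F : C ⥤ D) [F.CommShift ℤ] [HasZeroObject D] {X : C} (h : IsZero (F.obj X))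
    (n : ℤ) : IsZero (F.obj (X⟦n⟧)) :=
  ((shiftFunctor D n).map_isZero h).of_iso ((F.commShiftIso n).app X)

lemma eq_zero_of_shift {X Y : C} (f : X ⟶ Y) (h : f⟦(1 : ℤ)⟧' = 0) : f = 0 :=
  (shiftFunctor C (1 : ℤ)).map_injective (by rw [h, Functor.map_zero])

/-- Transport vanishing from the shift `-1` to the shift `1` of the target. -/
lemma eq_zero_of_shift_neg {X Y : C} (f : X ⟶ Y⟦(1 : ℤ)⟧)
    (h : f⟦(-1 : ℤ)⟧' ≫ (shiftEquiv C (1 : ℤ)).unitIso.inv.app Y = 0) : f = 0 := by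
  have h' : f⟦(-1 : ℤ)⟧' = 0 :=
    (cancel_mono ((shiftEquiv C (1 : ℤ)).unitIso.inv.app Y)).mp (h.trans zero_comp.symm)
  exact (shiftFunctor C (-1 : ℤ)).map_injective (by rw [h', Functor.map_zero])

end Shift

variable {S S' R R' : Type u} [Category.{v} S] [Category.{v} S'] [Category.{v} R] [Category.{v} R']
  [Preadditive S] [Preadditive S'] [Preadditive R] [Preadditive R']
  [HasZeroObject S] [HasZeroObject S'] [HasZeroObject R] [HasZeroObject R']
  [HasShift S ℤ] [HasShift S' ℤ] [HasShift R ℤ] [HasShift R' ℤ]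
  [∀ n : ℤ, (shiftFunctor S n).Additive] [∀ n : ℤ, (shiftFunctor S' n).Additive]
  [∀ n : ℤ, (shiftFunctor R n).Additive] [∀ n : ℤ, (shiftFunctor R' n).Additive]
  [Pretriangulated S] [Pretriangulated S'] [Pretriangulated R] [Pretriangulated R']
  (q : MVSq S S' R R')
  [q.jst.CommShift ℤ] [q.fst.CommShift ℤ] [q.jpst.CommShift ℤ] [q.gst.CommShift ℤ]
  [q.jst.IsTriangulated] [q.fst.IsTriangulated] [q.jpst.IsTriangulated] [q.gst.IsTriangulated]

instance : q.jls.Additive := q.adjJ.right_adjoint_additive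
instance : q.fls.Additive := q.adjF.right_adjoint_additive
instance : q.jpls.Additive := q.adjJp.right_adjoint_additive
instance : q.gls.Additive := q.adjG.right_adjoint_additive

variable {q}

lemma isZero_jst_fls (hbc : ∀ M : S', IsIso (q.bcApp M)) {M : S'} (hM : IsZero (q.jpst.obj M)) :
    IsZero (q.jst.obj (q.fls.obj M)) :=
  have := hbc M
  (q.gls.map_isZero hM).of_iso (asIso (q.bcApp M))

lemma isZero_jpst_fst {X : S} (hX : IsZero (q.jst.obj X)) :
    IsZero (q.jpst.obj (q.fst.obj X)) :=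
  (q.gst.map_isZero hX).of_iso ((q.e.app X).symm)

lemma hom_jls_eq_zero {X : S} (hX : IsZero (q.jst.obj X)) {P : R} (f : X ⟶ q.jls.obj P) : f = 0 := by
  apply (q.adjJ.homEquiv X P).symm.injective
  exact hX.eq_of_src _ _

lemma hom_jpls_eq_zero {M : S'} (hM : IsZero (q.jpst.obj M)) {P : R'} (f : M ⟶ q.jpls.obj P) :
    f = 0 := by
  apply (q.adjJp.homEquiv M P).symm.injective
  exact hM.eq_of_src _ _

section MV

variable (hq : q.IsMV)
include hq

lemma hom_fst_jls_eq_zero {X : S} (hX : IsZero (q.jst.obj X)) {P : R}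
    (f : q.fst.obj X ⟶ q.fst.obj (q.jls.obj P)) : f = 0 := by
  have := hq.isIso_bc2App P
  rw [← cancel_mono (q.bc2App P), zero_comp]
  exact hom_jpls_eq_zero (isZero_jpst_fst hX) _

lemma hom_T_jls_eq_zero {X : S} (hX : IsZero (q.jst.obj X)) {P : R}
    (f : X ⟶ q.fls.obj (q.fst.obj (q.jls.obj P))) : f = 0 := by
  apply (q.adjF.homEquiv _ _).symm.injective
  rw [hom_fst_jls_eq_zero hq hX ((q.adjF.homEquiv _ _).symm f)]
  simp [Adjunction.homEquiv_counit]

lemma isIso_jst_unit (N : S) : IsIso (q.jst.map (q.adjJ.unit.app N)) := by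
  have := hq.isIso_counitJ
  have : IsIso (q.jst.map (q.adjJ.unit.app N) ≫ q.adjJ.counit.app (q.jst.obj N)) := by
    rw [q.adjJ.left_triangle_components N]
    exact inferInstanceAs (IsIso (𝟙 (q.jst.obj N)))
  exact IsIso.of_isIso_comp_right _ (q.adjJ.counit.app (q.jst.obj N))

/-- Pullback along `X' ⟶ X` is bijective on morphisms out of objects killed on `U`. -/
theorem fst_map_bijective {X : S} (hX : IsZero (q.jst.obj X)) (N : S) :
    Function.Bijective (fun g : X ⟶ N => q.fst.map g) := by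
  obtain ⟨K, ι, δ, hT⟩ := distinguished_cocone_triangle₁ (q.adjJ.unit.app N)
  have hT' := q.fst.map_distinguished _ hT
  have hK : IsZero (q.jst.obj K) := by
    have h := q.jst.map_distinguished _ hT
    exact (Triangle.isZero₁_iff_isIso₂ _ h).mpr (isIso_jst_unit hq N)
  have := hq.isIso_unitF K hK
  constructor
  · intro g₁ g₂ hg
    rw [← sub_eq_zero]
    have hg' : q.fst.map (g₁ - g₂) = 0 := by rw [q.fst.map_sub]; exact sub_eq_zero.mpr hg
    obtain ⟨g', hg''⟩ : ∃ g' : X ⟶ K, g₁ - g₂ = g' ≫ ι :=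
      Triangle.coyoneda_exact₂ _ hT _ (hom_jls_eq_zero hX _)
    have h1 : q.fst.map g' = 0 := by
      apply eq_zero_of_shift
      obtain ⟨w, hw⟩ : ∃ w : (q.fst.obj X)⟦(1 : ℤ)⟧ ⟶ q.fst.obj (q.jls.obj (q.jst.obj N)),
          (q.fst.map g')⟦(1 : ℤ)⟧' = w ≫ (q.fst.mapTriangle.obj (Triangle.mk ι _ δ)).mor₃ :=
        Triangle.coyoneda_exact₁ _ hT' ((q.fst.map g')⟦(1 : ℤ)⟧') (by
          change (shiftFunctor S' (1 : ℤ)).map _ ≫ (shiftFunctor S' (1 : ℤ)).map (q.fst.map ι) = 0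
          exact ((shiftFunctor S' (1 : ℤ)).map_comp _ _).symm.trans ((congrArg _
            ((q.fst.map_comp g' ι).symm.trans (by rw [← hg'']; exact hg'))).trans
              (Functor.map_zero _ _ _)))
      have hw0 : w = 0 := by
        rw [← cancel_epi ((q.fst.commShiftIso (1 : ℤ)).hom.app X), comp_zero]
        exact hom_fst_jls_eq_zero hq (isZero_obj_shift q.jst hX 1) _
      rw [hw, hw0]
      exact zero_comp
    have h2 : g' = 0 := by
      have hn := q.adjF.unit.naturality g'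
      simp only [Functor.id_map, Functor.comp_map, h1, Functor.map_zero, comp_zero] at hn
      rw [← cancel_mono (q.adjF.unit.app K), zero_comp, hn]
    rw [hg'', h2, zero_comp]
  · intro h
    obtain ⟨h', hh'⟩ : ∃ h' : q.fst.obj X ⟶ q.fst.obj K, h = h' ≫ q.fst.map ι :=
      Triangle.coyoneda_exact₂ _ hT' h (hom_fst_jls_eq_zero hq hX _)
    refine ⟨q.adjF.homEquiv X _ h' ≫ inv (q.adjF.unit.app K) ≫ ι, ?_⟩
    change q.fst.map _ = h
    rw [hh', q.fst.map_comp, q.fst.map_comp, ← Category.assoc]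
    congr 1
    have hε : inv (q.fst.map (q.adjF.unit.app K)) = q.adjF.counit.app (q.fst.obj K) :=
      IsIso.inv_eq_of_hom_inv_id (q.adjF.left_triangle_components K)
    rw [Adjunction.homEquiv_unit, q.fst.map_comp, Functor.map_inv, hε, Category.assoc]
    change q.fst.map _ ≫ (q.fls ⋙ q.fst).map h' ≫ q.adjF.counit.app _ = _
    rw [q.adjF.counit.naturality]
    simp

/-- Composition with the unit of `f` is bijective on morphisms out of killed objects. -/
theorem comp_unit_bijective {X : S} (hX : IsZero (q.jst.obj X)) (N : S) :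
    Function.Bijective (fun g : X ⟶ N => g ≫ q.adjF.unit.app N) := by
  have : (fun g : X ⟶ N => g ≫ q.adjF.unit.app N) =
      (q.adjF.homEquiv X (q.fst.obj N)) ∘ (fun g : X ⟶ N => q.fst.map g) := by
    funext g
    rw [Function.comp_apply, Adjunction.homEquiv_unit]
    exact q.adjF.unit.naturality g
  rw [this]
  exact (Equiv.bijective _).comp (fst_map_bijective hq hX N)

omit hq in
/-- Killed objects only see the middle term of a triangle. -/
theorem comp_snd_bijective {N' A B C : S} [HasBinaryBiproduct A B] {a : N' ⟶ A ⊞ B} {c : A ⊞ B ⟶ C}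
    {d : C ⟶ N'⟦(1 : ℤ)⟧} (hT : Triangle.mk a c d ∈ distTriang S)
    (hA : ∀ {X : S}, IsZero (q.jst.obj X) → ∀ f : X ⟶ A, f = 0)
    (hC : ∀ {X : S}, IsZero (q.jst.obj X) → ∀ f : X ⟶ C, f = 0)
    {X : S} (hX : IsZero (q.jst.obj X)) :
    Function.Bijective (fun g : X ⟶ N' => g ≫ a ≫ biprod.snd) := by
  constructor
  · intro g₁ g₂ hg
    rw [← sub_eq_zero]
    have h0 : (g₁ - g₂) ≫ a = 0 := by
      apply biprod.hom_ext
      · rw [zero_comp]; exact hA hX _
      · rw [zero_comp, Category.assoc, Preadditive.sub_comp]; exact sub_eq_zero.mpr hg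
    apply eq_zero_of_shift
    obtain ⟨w, hw⟩ : ∃ w : X⟦(1 : ℤ)⟧ ⟶ C, (g₁ - g₂)⟦(1 : ℤ)⟧' = w ≫ d :=
      Triangle.coyoneda_exact₁ _ hT ((g₁ - g₂)⟦(1 : ℤ)⟧') (by
        change (shiftFunctor S (1 : ℤ)).map _ ≫ (shiftFunctor S (1 : ℤ)).map a = 0
        rw [← Functor.map_comp, h0, Functor.map_zero])
    rw [hw, hC (isZero_obj_shift q.jst hX 1) w, zero_comp]
  · intro h
    obtain ⟨g, hg⟩ : ∃ g : X ⟶ N', biprod.lift 0 h = g ≫ a :=
      Triangle.coyoneda_exact₂ _ hT (biprod.lift 0 h) (hC hX _)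
    exact ⟨g, by change g ≫ a ≫ biprod.snd = h; rw [← reassoc_of% hg]; simp⟩

omit hq in
/-- A morphism inverted by `H` and bijective on morphisms out of objects killed by `H` is invertible. -/
theorem isIso_of_killed {D E : Type u} [Category.{v} D] [Category.{v} E] [Preadditive D]
    [Preadditive E] [HasZeroObject D] [HasZeroObject E] [HasShift D ℤ] [HasShift E ℤ]
    [∀ n : ℤ, (shiftFunctor D n).Additive] [∀ n : ℤ, (shiftFunctor E n).Additive]
    [Pretriangulated D] [Pretriangulated E] (H : D ⥤ E) [H.CommShift ℤ] [H.IsTriangulated]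
    {P Q : D} (ψ : P ⟶ Q) [IsIso (H.map ψ)]
    (hb : ∀ {L : D}, IsZero (H.obj L) → Function.Bijective (fun g : L ⟶ P => g ≫ ψ)) :
    IsIso ψ := by
  obtain ⟨L, π, δ, hT⟩ := distinguished_cocone_triangle ψ
  have hL : IsZero (H.obj L) := by
    have h := H.map_distinguished _ hT
    exact (Triangle.isZero₃_iff_isIso₁ _ h).mpr (inferInstanceAs (IsIso (H.map ψ)))
  have hδ : δ = 0 := by
    have h0 : δ ≫ ψ⟦(1 : ℤ)⟧' = 0 := comp_distTriang_mor_zero₃₁ _ hT
    apply eq_zero_of_shift_neg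
    apply (hb (isZero_obj_shift H hL (-1))).injective
    change (_ ≫ _) ≫ ψ = 0 ≫ ψ
    refine (Category.assoc _ _ _).trans ?_
    rw [zero_comp]
    have hn := (shiftEquiv D (1 : ℤ)).unitIso.inv.naturality ψ
    change _ ≫ (shiftEquiv D (1 : ℤ)).unitIso.inv.app Q = _ at hn
    rw [← show (shiftFunctor D (-1 : ℤ)).map (ψ⟦(1 : ℤ)⟧') ≫
        (shiftEquiv D (1 : ℤ)).unitIso.inv.app Q =
        (shiftEquiv D (1 : ℤ)).unitIso.inv.app P ≫ ψ from hn, ← Category.assoc,
      ← Functor.map_comp, h0, Functor.map_zero, zero_comp]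
  obtain ⟨s, hs⟩ : ∃ s : L ⟶ Q, 𝟙 L = s ≫ π :=
    Triangle.coyoneda_exact₃ _ hT (𝟙 L) (by
      change 𝟙 L ≫ δ = 0
      rw [hδ, comp_zero])
  obtain ⟨s', rfl⟩ := (hb hL).surjective s
  have hz : IsZero L := by
    have h12 : ψ ≫ π = 0 := comp_distTriang_mor_zero₁₂ _ hT
    rw [IsZero.iff_id_eq_zero, hs, Category.assoc, h12, comp_zero]
  exact (Triangle.isZero₃_iff_isIso₁ _ hT).mp hz

lemma isIso_jst_T_jls (N : S) :
    IsIso (q.jst.map (q.fls.map (q.fst.map (q.adjJ.unit.app N)))) := by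
  have h1 := hq.isIso_bcApp (q.fst.obj N)
  have h2 := hq.isIso_bcApp (q.fst.obj (q.jls.obj (q.jst.obj N)))
  have h3 : IsIso (q.gls.map (q.jpst.map (q.fst.map (q.adjJ.unit.app N)))) := by
    have := isIso_jst_unit hq N
    have : IsIso (q.jpst.map (q.fst.map (q.adjJ.unit.app N))) :=
      (NatIso.isIso_map_iff q.e (q.adjJ.unit.app N)).mp
        (inferInstanceAs (IsIso (q.gst.map (q.jst.map (q.adjJ.unit.app N)))))
    infer_instance
  have hn : q.jst.map (q.fls.map (q.fst.map (q.adjJ.unit.app N))) ≫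
      q.bcApp (q.fst.obj (q.jls.obj (q.jst.obj N))) =
      q.bcApp (q.fst.obj N) ≫ q.gls.map (q.jpst.map (q.fst.map (q.adjJ.unit.app N))) := by
    rw [MVSq.bcApp, MVSq.bcApp]
    have a1 := q.adjG.unit.naturality (q.jst.map (q.fls.map (q.fst.map (q.adjJ.unit.app N))))
    have a2 := q.e.hom.naturality (q.fls.map (q.fst.map (q.adjJ.unit.app N)))
    have a3 := q.adjF.counit.naturality (q.fst.map (q.adjJ.unit.app N))
    dsimp at a1 a2 a3 ⊢
    rw [reassoc_of% a1]
    simp only [Category.assoc, ← Functor.map_comp]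
    rw [reassoc_of% a2, ← Functor.map_comp, a3, Functor.map_comp]
  exact IsIso.of_isIso_fac_right hn

variable (q) in
omit hq in
/-- The second map of the Mayer–Vietoris triangle. -/
def mvv (N : S) : q.jls.obj (q.jst.obj N) ⊞ q.fls.obj (q.fst.obj N) ⟶
    q.fls.obj (q.fst.obj (q.jls.obj (q.jst.obj N))) :=
  biprod.desc (q.adjF.unit.app (q.jls.obj (q.jst.obj N)))
    (-(q.fls.map (q.fst.map (q.adjJ.unit.app N))))

variable (q) in
omit hq in
/-- The first map of the Mayer–Vietoris triangle. -/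
def mvu (N : S) : N ⟶ q.jls.obj (q.jst.obj N) ⊞ q.fls.obj (q.fst.obj N) :=
  biprod.lift (q.adjJ.unit.app N) (q.adjF.unit.app N)

omit hq in
lemma mvu_mvv (N : S) : mvu q N ≫ mvv q N = 0 := by
  have h : q.adjJ.unit.app N ≫ q.adjF.unit.app (q.jls.obj (q.jst.obj N)) =
      q.adjF.unit.app N ≫ q.fls.map (q.fst.map (q.adjJ.unit.app N)) :=
    q.adjF.unit.naturality (q.adjJ.unit.app N)
  rw [mvu, mvv, biprod.lift_desc, Preadditive.comp_neg, h, add_neg_cancel]

theorem exists_mv (N : S) :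
    ∃ d : q.fls.obj (q.fst.obj (q.jls.obj (q.jst.obj N))) ⟶ N⟦(1 : ℤ)⟧,
      Triangle.mk (mvu q N) (mvv q N) d ∈ distTriang S := by
  obtain ⟨N', a, d', hT⟩ := distinguished_cocone_triangle₁ (mvv q N)
  obtain ⟨φ, hφ⟩ : ∃ φ : N ⟶ N', mvu q N = φ ≫ a :=
    Triangle.coyoneda_exact₂ _ hT _ (mvu_mvv N)
  have hJ := isIso_jst_T_jls hq N
  have hJφ : IsIso (q.jst.map φ) := by
    have hT' := q.jst.map_distinguished _ hT
    have hepi : Epi (q.jst.map (mvv q N)) := by
      have : Epi (q.jst.map (biprod.inr : _ ⟶ q.jls.obj (q.jst.obj N) ⊞ q.fls.obj (q.fst.obj N)) ≫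
          q.jst.map (mvv q N)) := by
        rw [← q.jst.map_comp, mvv, biprod.inr_desc, Functor.map_neg]
        infer_instance
      exact epi_of_epi (q.jst.map biprod.inr) _
    have hmono : Mono (q.jst.map a) :=
      Triangle.mono₁ _ hT' (Triangle.mor₃_eq_zero_of_epi₂ _ hT' hepi)
    have hu : IsIso (q.jst.map φ ≫ q.jst.map (a ≫ biprod.fst)) := by
      rw [← q.jst.map_comp, ← Category.assoc, ← hφ, mvu, biprod.lift_fst]
      exact isIso_jst_unit hq N
    have hmono1 : Mono (q.jst.map (a ≫ biprod.fst)) := by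
      refine Preadditive.mono_of_cancel_zero _ fun {Z} z hz => ?_
      rw [← cancel_mono (q.jst.map a), zero_comp]
      rw [q.jst.map_comp, ← Category.assoc] at hz
      have hv : (z ≫ q.jst.map a) ≫ q.jst.map (mvv q N) = 0 := by
        rw [Category.assoc, ← q.jst.map_comp,
          show a ≫ mvv q N = 0 from comp_distTriang_mor_zero₁₂ _ hT, Functor.map_zero, comp_zero]
      have htot : q.jst.map (𝟙 (q.jls.obj (q.jst.obj N) ⊞ q.fls.obj (q.fst.obj N))) =
          q.jst.map biprod.fst ≫ q.jst.map biprod.inl + q.jst.map biprod.snd ≫ q.jst.map biprod.inr := by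
        rw [← q.jst.map_comp, ← q.jst.map_comp, ← q.jst.map_add, biprod.total]
      have e1 : z ≫ q.jst.map a = ((z ≫ q.jst.map a) ≫ q.jst.map biprod.snd) ≫ q.jst.map biprod.inr := by
        conv_lhs => rw [← Category.comp_id (z ≫ q.jst.map a), ← q.jst.map_id, htot, Preadditive.comp_add]
        simp only [reassoc_of% hz, Category.assoc, zero_comp, comp_zero, zero_add]
      have e2 : (z ≫ q.jst.map a) ≫ q.jst.map biprod.snd = 0 := by
        rw [e1, Category.assoc, ← q.jst.map_comp, mvv, biprod.inr_desc, Functor.map_neg,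
          Preadditive.comp_neg, neg_eq_zero] at hv
        exact (cancel_mono (q.jst.map (q.fls.map (q.fst.map (q.adjJ.unit.app N))))).mp
          (by rw [hv, zero_comp])
      rw [e1, e2, zero_comp]
    have : IsSplitEpi (q.jst.map (a ≫ biprod.fst)) :=
      ⟨⟨inv (q.jst.map φ ≫ q.jst.map (a ≫ biprod.fst)) ≫ q.jst.map φ, by simp⟩⟩
    have := isIso_of_mono_of_isSplitEpi (q.jst.map (a ≫ biprod.fst))
    exact IsIso.of_isIso_comp_right _ (q.jst.map (a ≫ biprod.fst))
  have hiso : IsIso φ := by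
    refine isIso_of_killed q.jst φ fun {L} hL => ?_
    have hb := comp_snd_bijective (q := q) hT (fun hX f => hom_jls_eq_zero hX f)
      (fun hX f => hom_T_jls_eq_zero hq hX f) hL
    refine (Function.Bijective.of_comp_iff' hb _).mp ?_
    have : (fun g : L ⟶ N' => g ≫ a ≫ biprod.snd) ∘ (fun g : L ⟶ N => g ≫ φ) =
        fun g => g ≫ q.adjF.unit.app N := by
      funext g
      simp only [Function.comp_apply, Category.assoc]
      rw [← Category.assoc φ, ← hφ, mvu, biprod.lift_snd]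
    rw [this]
    exact comp_unit_bijective hq hL N
  refine ⟨d' ≫ (inv φ)⟦(1 : ℤ)⟧', isomorphic_distinguished _ hT _
    (Triangle.isoMk _ _ (asIso φ) (Iso.refl _) (Iso.refl _) ?_ ?_ ?_)⟩
  · simp [hφ]
  · simp
  · simp [← Functor.map_comp]

/-- The connecting map composed with any endomorphism factoring through it vanishes. -/
theorem conn_comp_eq_zero {N : S} {d : q.fls.obj (q.fst.obj (q.jls.obj (q.jst.obj N))) ⟶ N⟦(1 : ℤ)⟧}
    (hT : Triangle.mk (mvu q N) (mvv q N) d ∈ distTriang S)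
    {P : R} (w : N⟦(1 : ℤ)⟧ ⟶ q.fls.obj (q.fst.obj (q.jls.obj P))) : d ≫ w = 0 := by
  obtain ⟨K, ι, δ, hK⟩ := distinguished_cocone_triangle₁ (q.adjJ.unit.app N)
  have hK0 : IsZero (q.jst.obj K) := by
    have h := q.jst.map_distinguished _ hK
    exact (Triangle.isZero₁_iff_isIso₂ _ h).mpr (isIso_jst_unit hq N)
  have hd : d ≫ (mvu q N)⟦(1 : ℤ)⟧' = 0 := comp_distTriang_mor_zero₃₁ _ hT
  have hd1 : d ≫ (q.adjJ.unit.app N)⟦(1 : ℤ)⟧' = 0 := by
    rw [show q.adjJ.unit.app N = mvu q N ≫ biprod.fst by simp [mvu], Functor.map_comp,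
      reassoc_of% hd, zero_comp]
  obtain ⟨d₀, hd₀⟩ : ∃ d₀ : _ ⟶ K⟦(1 : ℤ)⟧, d = d₀ ≫ ι⟦(1 : ℤ)⟧' :=
    let ⟨g, hg⟩ := Triangle.coyoneda_exact₂ _
      (rot_of_distTriang _ (rot_of_distTriang _ (rot_of_distTriang _ hK))) d
      (by
        change d ≫ (-((q.adjJ.unit.app N)⟦(1 : ℤ)⟧')) = 0
        exact (Preadditive.comp_neg _ _).trans (neg_eq_zero.mpr hd1))
    ⟨-g, hg.trans ((Preadditive.comp_neg g (ι⟦(1 : ℤ)⟧')).trans (Preadditive.neg_comp g _).symm)⟩
  rw [hd₀, Category.assoc, hom_T_jls_eq_zero hq (isZero_obj_shift q.jst hK0 1) (ι⟦(1 : ℤ)⟧' ≫ w),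
    comp_zero]

theorem mv_naturality {N₁ N₂ : S} (φ : N₁ ⟶ N₂)
    {d₁ : q.fls.obj (q.fst.obj (q.jls.obj (q.jst.obj N₁))) ⟶ N₁⟦(1 : ℤ)⟧}
    {d₂ : q.fls.obj (q.fst.obj (q.jls.obj (q.jst.obj N₂))) ⟶ N₂⟦(1 : ℤ)⟧}
    (h₁ : Triangle.mk (mvu q N₁) (mvv q N₁) d₁ ∈ distTriang S)
    (h₂ : Triangle.mk (mvu q N₂) (mvv q N₂) d₂ ∈ distTriang S) :
    d₁ ≫ φ⟦(1 : ℤ)⟧' = q.fls.map (q.fst.map (q.jls.map (q.jst.map φ))) ≫ d₂ := by
  let b : q.jls.obj (q.jst.obj N₁) ⊞ q.fls.obj (q.fst.obj N₁) ⟶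
      q.jls.obj (q.jst.obj N₂) ⊞ q.fls.obj (q.fst.obj N₂) :=
    biprod.map (q.jls.map (q.jst.map φ)) (q.fls.map (q.fst.map φ))
  let c := q.fls.map (q.fst.map (q.jls.map (q.jst.map φ)))
  have nJ : φ ≫ q.adjJ.unit.app N₂ = q.adjJ.unit.app N₁ ≫ q.jls.map (q.jst.map φ) :=
    q.adjJ.unit.naturality φ
  have nF : φ ≫ q.adjF.unit.app N₂ = q.adjF.unit.app N₁ ≫ q.fls.map (q.fst.map φ) :=
    q.adjF.unit.naturality φ
  have nA : q.jls.map (q.jst.map φ) ≫ q.adjF.unit.app (q.jls.obj (q.jst.obj N₂)) =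
      q.adjF.unit.app (q.jls.obj (q.jst.obj N₁)) ≫ c :=
    q.adjF.unit.naturality (q.jls.map (q.jst.map φ))
  have comm : mvv q N₁ ≫ c = b ≫ mvv q N₂ := by
    apply biprod.hom_ext'
    · simp [mvv, b, nA]
    · simp only [mvv, b, biprod.inr_desc_assoc, biprod.inr_map_assoc, biprod.inr_desc,
        Preadditive.neg_comp, Preadditive.comp_neg, c, ← Functor.map_comp, nJ]
  obtain ⟨θ, hθ1, hθ2⟩ : ∃ θ : N₁ ⟶ N₂, mvu q N₁ ≫ b = θ ≫ mvu q N₂ ∧
      d₁ ≫ θ⟦(1 : ℤ)⟧' = c ≫ d₂ :=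
    complete_distinguished_triangle_morphism₁ _ _ h₁ h₂ b c comm
  have hu : (θ - φ) ≫ mvu q N₂ = 0 := by
    rw [Preadditive.sub_comp, sub_eq_zero, ← hθ1]
    apply biprod.hom_ext
    · rw [Category.assoc, Category.assoc, mvu, mvu, biprod.map_fst, biprod.lift_fst_assoc,
        biprod.lift_fst, nJ]
    · rw [Category.assoc, Category.assoc, mvu, mvu, biprod.map_snd, biprod.lift_snd_assoc,
        biprod.lift_snd, nF]
  obtain ⟨w, hw⟩ : ∃ w, (θ - φ)⟦(1 : ℤ)⟧' = w ≫ d₂ :=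
    Triangle.coyoneda_exact₁ _ h₂ ((θ - φ)⟦(1 : ℤ)⟧') (by
      change (shiftFunctor S (1 : ℤ)).map _ ≫ (shiftFunctor S (1 : ℤ)).map (mvu q N₂) = 0
      rw [← Functor.map_comp, hu, Functor.map_zero])
  have h0 : d₁ ≫ (θ - φ)⟦(1 : ℤ)⟧' = 0 := by
    rw [hw, ← Category.assoc, conn_comp_eq_zero hq h₁ w, zero_comp]
  rw [← hθ2, eq_comm, ← sub_eq_zero, ← Preadditive.comp_sub, ← Functor.map_sub]
  exact h0

end MV

end Groth.Agent.MVTri.Basic
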